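import Cfsg.Agent.H583.DPi.Eng
import Cfsg.Agent.LThreeCo1T8.Main
import Cfsg.Agent.H149.Sp.CopCoMain

/-!
# S4247, NF1: `Co₁` (helper889)

No element of order 2 centralises a Sylow 3-subgroup, no element of order 7 centralises a Sylow 5-subgroup.
-/

set_option autoImplicit false

namespace Cfsg.Agent.H889.DPi

open Subgroup Cfsg Cfsg.Agent.H583.DPi
open scoped Pointwise

universe u

/-- an involution of `S₉` does not commute with the 9-cycle -/
theorem eq_one_of_comm {σ : Equiv.Perm (Fin 9)} (h2 : σ * σ = 1) (hc : σ * finRotate 9 = finRotate 9 * σ) : σ = 1 := by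
  have h1 : ∀ i : Fin 9, σ (i + 1) = σ i + 1 := by
    intro i
    have h3 := congrArg (fun f : Equiv.Perm (Fin 9) => f i) hc
    simp only [Equiv.Perm.mul_apply, finRotate_apply] at h3
    exact h3
  have h3 : ∀ i : Fin 9, σ i = σ 0 + i := by
    intro i
    induction i using Fin.induction with
    | zero => rw [add_zero]
    | succ i ih => rw [← Fin.coeSucc_eq_succ, h1, ih, add_assoc]
  have h4 : σ (σ 0) = 0 := by
    have := congrArg (fun f : Equiv.Perm (Fin 9) => f 0) h2
    exact this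
  rw [h3 (σ 0)] at h4
  have h5 : σ 0 = 0 := by
    have key : ∀ j : Fin 9, j + j = 0 → j = 0 := by decide
    exact key _ h4
  ext i
  rw [h3 i, h5, zero_add]
  rfl

/-- the abstract form: `C(x) = A₉ × ⟨x⟩` -/
theorem nf_of_alt {G : Type*} [Group G] [Finite G] {x : G} (hx : orderOf x = 3) {A : Subgroup G} (hA : A ≤ centralizer {x})
    (e : ↥A ≃* alternatingGroup (Fin 9)) (hinf : A ⊓ zpowers x = ⊥) (hsup : A ⊔ zpowers x = centralizer {x}) {a : ℕ}
    (ha : ∀ P : Sylow 3 G, Nat.card P = 3 ^ a) : NF G 3 a 2 := by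
  have h3f : Fact (Nat.Prime 3) := ⟨Nat.prime_three⟩
  intro Q hQ y hy hcomm
  -- the 9-cycle
  have hs : finRotate 9 ∈ alternatingGroup (Fin 9) := by
    rw [Equiv.Perm.mem_alternatingGroup, sign_finRotate]
    norm_num
  obtain ⟨u, hu⟩ : ∃ u : ↥A, u = e.symm ⟨finRotate 9, hs⟩ := ⟨_, rfl⟩
  have hux : (u : G) * x = x * u := (mem_centralizer_singleton_iff.1 (hA u.2))
  have hu9 : (u : G) ^ 9 = 1 := by
    have h1 : (finRotate 9 : Equiv.Perm (Fin 9)) ^ 9 = 1 := by decide
    have h2 : (⟨finRotate 9, hs⟩ : alternatingGroup (Fin 9)) ^ 9 = 1 := Subtype.ext h1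
    have h3 : u ^ 9 = 1 := by rw [hu, ← map_pow, h2, map_one]
    exact congrArg Subtype.val h3
  have hx3 : x ^ 3 = 1 := by rw [← hx, pow_orderOf_eq_one]
  -- the 3-group generated by `x` and `u`
  have hp : IsPGroup 3 ↥(closure ({x, (u : G)} : Set G)) := by
    have hcc : ∀ b ∈ ({x, (u : G)} : Set G), ∀ c ∈ ({x, (u : G)} : Set G), b * c = c * b := by
      rintro b (rfl | rfl) c (rfl | rfl)
      · rfl
      · exact hux.symm
      · exact hux
      · rfl
    have hab := Subgroup.isMulCommutative_closure hcc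
    rintro ⟨z, hz⟩
    refine ⟨2, ?_⟩
    apply Subtype.ext
    show z ^ 3 ^ 2 = 1
    have h9 : (3 : ℕ) ^ 2 = 9 := by norm_num
    rw [h9]
    induction hz using Subgroup.closure_induction with
    | mem w hw =>
      rcases hw with rfl | rfl
      · rw [show (9 : ℕ) = 3 * 3 by norm_num, pow_mul, hx3, one_pow]
      · exact hu9
    | one => exact one_pow 9
    | mul b c hb hc' ihb ihc =>
      have h1 : Commute b c := congrArg Subtype.val (hab.is_comm.comm ⟨b, hb⟩ ⟨c, hc'⟩)
      rw [h1.mul_pow, ihb, ihc, one_mul]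
    | inv b _ ih => rw [inv_pow, ih, inv_one]
  obtain ⟨P, hP⟩ := hp.exists_le_sylow
  have hQp : IsPGroup 3 Q := IsPGroup.of_card hQ
  obtain ⟨R, hR⟩ := hQp.exists_le_sylow
  have hQR : Q = (R : Subgroup G) := Subgroup.eq_of_le_of_card_ge hR (by rw [ha R, hQ])
  obtain ⟨g, hg⟩ := MulAction.exists_smul_eq G P R
  have hmem : ∀ z ∈ (P : Subgroup G), g * z * g⁻¹ ∈ Q := by
    intro z hz
    rw [hQR, ← hg]
    rw [Sylow.smul_def]
    exact smul_mem_pointwise_smul _ _ _ hz
  have hc : ∀ z ∈ (P : Subgroup G), z * (g⁻¹ * y * g) = (g⁻¹ * y * g) * z := by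
    intro z hz
    have h1 := hcomm _ (hmem z hz)
    calc z * (g⁻¹ * y * g) = g⁻¹ * ((g * z * g⁻¹) * y) * g := by group
      _ = g⁻¹ * (y * (g * z * g⁻¹)) * g := by rw [h1]
      _ = _ := by group
  set t := g⁻¹ * y * g with ht
  have ht2 : t * t = 1 := by
    have h1 : y * y = 1 := by rw [← pow_two, ← hy, pow_orderOf_eq_one]
    calc t * t = g⁻¹ * (y * y) * g := by rw [ht]; group
      _ = 1 := by rw [h1]; group
  have hxP : x ∈ (P : Subgroup G) := hP (subset_closure (Or.inl rfl))
  have huP : (u : G) ∈ (P : Subgroup G) := hP (subset_closure (Or.inr rfl))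
  have htx : t ∈ centralizer ({x} : Set G) := mem_centralizer_singleton_iff.2 (hc x hxP).symm
  rw [← hsup] at htx
  have hnorm : zpowers x ≤ centralizer (A : Set G) := by
    rw [zpowers_le, mem_centralizer_iff]
    intro b hb
    exact mem_centralizer_singleton_iff.1 (hA hb)
  have hcomm' : ∀ b ∈ A, ∀ c ∈ zpowers x, b * c = c * b := fun b hb c hc' => (mem_centralizer_iff.1 (hnorm hc')) b hb
  have hdec : ∀ z ∈ A ⊔ zpowers x, ∃ b ∈ A, ∃ c ∈ zpowers x, b * c = z := by
    intro z hz
    rw [Subgroup.sup_eq_closure] at hz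
    induction hz using Subgroup.closure_induction with
    | mem z hz =>
      rcases hz with hz | hz
      · exact ⟨z, hz, 1, one_mem _, mul_one z⟩
      · exact ⟨1, one_mem _, z, hz, one_mul z⟩
    | one => exact ⟨1, one_mem _, 1, one_mem _, mul_one 1⟩
    | mul z z' _ _ ih ih' =>
      obtain ⟨b, hb, c, hc', rfl⟩ := ih
      obtain ⟨b', hb', c', hc'', rfl⟩ := ih'
      refine ⟨b * b', mul_mem hb hb', c * c', mul_mem hc' hc'', ?_⟩
      calc b * b' * (c * c') = b * (b' * c) * c' := by group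
        _ = b * (c * b') * c' := by rw [hcomm' b' hb' c hc']
        _ = _ := by group
    | inv z _ ih =>
      obtain ⟨b, hb, c, hc', rfl⟩ := ih
      refine ⟨b⁻¹, inv_mem hb, c⁻¹, inv_mem hc', ?_⟩
      rw [mul_inv_rev, hcomm' _ (inv_mem hb) _ (inv_mem hc')]
  obtain ⟨b, hb, c, hcz, hbc⟩ := hdec t htx
  have hbc' : b * c = c * b := (mem_centralizer_iff.1 (hnorm hcz)) b hb
  have h1 : (b * b) * (c * c) = 1 := by
    calc (b * b) * (c * c) = b * (b * c) * c := by group
      _ = b * (c * b) * c := by rw [hbc']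
      _ = (b * c) * (b * c) := by group
      _ = 1 := by rw [hbc, ht2]
  have hbb : b * b = 1 := by
    have h2 : b * b ∈ A ⊓ zpowers x := by
      refine ⟨mul_mem hb hb, ?_⟩
      have h3 : b * b = (c * c)⁻¹ := eq_inv_of_mul_eq_one_left h1
      rw [h3]
      exact (zpowers x).inv_mem ((zpowers x).mul_mem hcz hcz)
    rwa [hinf, mem_bot] at h2
  have hcc : c = 1 := by
    rw [hbb, one_mul] at h1
    have h2 : orderOf c ∣ 3 := by
      obtain ⟨k, rfl⟩ := hcz
      apply orderOf_dvd_of_pow_eq_one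
      show (x ^ k) ^ 3 = 1
      rw [← zpow_natCast, ← zpow_mul, mul_comm, zpow_mul, zpow_natCast, hx3, one_zpow]
    have h3 : orderOf c ∣ 2 := orderOf_dvd_of_pow_eq_one (by rw [pow_two, h1])
    have h4 : orderOf c = 1 := Nat.eq_one_of_dvd_coprimes (by norm_num) h2 h3
    exact orderOf_eq_one_iff.1 h4
  have hbt : b = t := by rw [← hbc, hcc, mul_one]
  -- `t` is an involution of `A₉` commuting with the 9-cycle
  have htu : t * u = u * t := (hc u huP).symm
  have hta : t ∈ A := hbt ▸ hb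
  obtain ⟨s, hs'⟩ : ∃ s : ↥A, s = ⟨t, hta⟩ := ⟨_, rfl⟩
  have hss : s * s = 1 := Subtype.ext (by rw [hs']; exact ht2)
  have hsu : s * u = u * s := Subtype.ext (by rw [hs']; exact htu)
  have h5 : ((e s : alternatingGroup (Fin 9)) : Equiv.Perm (Fin 9)) = 1 := by
    apply eq_one_of_comm
    · have := congrArg (fun z => ((e z : alternatingGroup (Fin 9)) : Equiv.Perm (Fin 9))) hss
      simpa using this
    · have := congrArg (fun z => ((e z : alternatingGroup (Fin 9)) : Equiv.Perm (Fin 9))) hsu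
      simpa [hu] using this
  have h6 : s = 1 := by
    apply e.injective
    rw [map_one]
    exact Subtype.ext h5
  have h7 : t = 1 := by
    have := congrArg Subtype.val h6
    rw [hs'] at this
    exact this
  have h8 : y = 1 := by
    calc y = g * t * g⁻¹ := by rw [ht]; group
      _ = 1 := by rw [h7]; group
  rw [h8, orderOf_one] at hy
  omega

/-- **S4247-NF1** -/
theorem nf_co1 {S : Type u} [Group S] [Finite S] (h : Cfsg.Spor.IsoCo1 S) : NF S 3 9 2 ∧ NF S 5 4 7 := by
  obtain ⟨e⟩ := h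
  have hcard : Nat.card Spor.Co1 = 4157776806543360000 := Cfsg.Agent.S0399.result.2
  have hfin : Finite Spor.Co1 := LThreeCo1T8.Main.finCo1
  constructor
  · have h1 : NF Spor.Co1 3 9 2 := by
      obtain ⟨f⟩ := LThreeCo1T8.Main.nonempty_equiv
      refine nf_of_alt LThreeCo1T8.Main.order_x LThreeCo1T8.Main.AA_le f LThreeCo1T8.Main.inf_eq
        LThreeCo1T8.Main.sup_eq ?_
      intro P
      have h3f : Fact (Nat.Prime 3) := ⟨Nat.prime_three⟩
      rw [P.card_eq_multiplicity, hcard]
      congr 1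
      have h9 := (Nat.Prime.pow_dvd_iff_le_factorization (k := 9) Nat.prime_three
        (by norm_num : (4157776806543360000 : ℕ) ≠ 0)).1 (by norm_num)
      have h10 : ¬ 10 ≤ (4157776806543360000 : ℕ).factorization 3 := fun hh =>
        absurd ((Nat.Prime.pow_dvd_iff_le_factorization (k := 10) Nat.prime_three
          (by norm_num : (4157776806543360000 : ℕ) ≠ 0)).2 hh) (by norm_num)
      omega
    intro Q hQ y hy hc
    refine h1 (Q.map e.toMonoidHom) ?_ (e y) (by rw [MulEquiv.orderOf_eq, hy]) ?_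
    · rw [← hQ]
      exact Nat.card_congr (Subgroup.equivMapOfInjective Q e.toMonoidHom e.injective).symm.toEquiv
    · rintro _ ⟨x, hx, rfl⟩
      show e x * e y = e y * e x
      rw [← map_mul, hc x hx, map_mul]
  · intro Q hQ y hy hc
    have h1 := Cfsg.Agent.H149.Sp.CopCo.co1_7_5 (e y) (by rw [MulEquiv.orderOf_eq, hy])
    apply h1
    have h2 : Nat.card (centralizer ({y} : Set S)) = Nat.card (centralizer ({e y} : Set Spor.Co1)) :=
      Cfsg.Agent.H537.Cop.card_centralizer_equiv e y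
    rw [← h2]
    have h3 : Q ≤ centralizer ({y} : Set S) := fun x hx => mem_centralizer_singleton_iff.2 (hc x hx)
    have h4 := Subgroup.card_dvd_of_le h3
    rw [hQ] at h4
    exact (pow_dvd_pow 5 (by norm_num)).trans h4

end Cfsg.Agent.H889.DPi
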